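import Groth.Agent.Lib.Helper97.DefLift.MapRange
import Groth.Agent.Lib.Helper97.CotT2.ChangeRing
import Mathlib

/-!
# Lifting a flat quotient along a small extension when `T² = 0` (abstract algebraic core,
without a ring-theoretic section)
-/

set_option autoImplicit false

namespace Groth.Agent.Lib.Helper97.DefLCI

open Groth.Agent.Lib.Helper97.CotT2 Groth.Agent.Lib.Helper97.DefLift

variable {S' S S₀ R B₀ : Type*} [CommRing S'] [CommRing S] [CommRing S₀] [CommRing R]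
  [CommRing B₀] [Algebra S₀ B₀] {σ : Type*}

/-- The hypotheses of the abstract lifting problem. `S' → S → S₀` are the "polynomial rings" over
`A' → A → k`, `t` generates the kernel of `S' → S`, `R = S / K` is the given flat deformation and
`B₀ = S₀ / (f)` its closed fibre. -/
structure CoreHypL (ρ' : S' →+* S) (ρ : S →+* S₀) (pr : S →+* R) (π : R →+* B₀)
    (t : S') (f : σ → S₀) : Prop where
  ρ'_surj : Function.Surjective ρ'
  ker_ρ' : RingHom.ker ρ' = Ideal.span {t}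
  ρ_surj : Function.Surjective ρ
  t_kill : ∀ x, ρ (ρ' x) = 0 → t * x = 0
  t_inj : ∀ x : S', t * x = 0 → ρ (ρ' x) = 0
  pr_surj : Function.Surjective pr
  π_pr : ∀ x, π (pr x) = algebraMap S₀ B₀ (ρ x)
  ker_π : RingHom.ker π = (RingHom.ker ρ).map pr
  nil : IsNilpotent (RingHom.ker ρ)
  inter : RingHom.ker pr ⊓ RingHom.ker ρ ≤ RingHom.ker ρ * RingHom.ker pr
  rel : ∀ F : σ → S, Ideal.span (Set.range F) = RingHom.ker pr → ∀ q ∈ Q F,
    (∀ s, q s ∈ RingHom.ker ρ) → q ∈ RingHom.ker ρ • Q F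
  span_f : Ideal.span (Set.range f) = RingHom.ker (algebraMap S₀ B₀)
  κ_surj : Function.Surjective (algebraMap S₀ B₀)

namespace CoreHypL

variable {ρ' : S' →+* S} {ρ : S →+* S₀} {pr : S →+* R} {π : R →+* B₀}
  {t : S'} {f : σ → S₀} (h : CoreHypL ρ' ρ pr π t f)

include h

lemma ρ'_t : ρ' t = 0 := by
  have : t ∈ RingHom.ker ρ' := by rw [h.ker_ρ']; exact Ideal.mem_span_singleton_self t
  exact this

lemma ρ₀_eq_of_t_mul_eq {x y : S'} (hxy : t * x = t * y) : ρ (ρ' x) = ρ (ρ' y) := by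
  have h1 : t * (x - y) = 0 := by rw [mul_sub, hxy, sub_self]
  have h2 := h.t_inj _ h1
  rw [map_sub, map_sub, sub_eq_zero] at h2
  exact h2

lemma ρρ'_surj : Function.Surjective (ρ.comp ρ') := h.ρ_surj.comp h.ρ'_surj

lemma exists_of_ρ'_eq_zero (x : S') (hx : ρ' x = 0) : ∃ y, x = t * y := by
  have : x ∈ Ideal.span {t} := by rw [← h.ker_ρ']; exact hx
  obtain ⟨y, hy⟩ := Ideal.mem_span_singleton'.mp this
  exact ⟨y, by rw [← hy, mul_comm]⟩

lemma f_mem_ker (s : σ) : algebraMap S₀ B₀ (f s) = 0 := by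
  have : f s ∈ RingHom.ker (algebraMap S₀ B₀) := by
    rw [← h.span_f]
    exact Ideal.subset_span ⟨s, rfl⟩
  exact this

lemma κ_jm_f (r : σ →₀ S₀) : algebraMap S₀ B₀ (jm f r) = 0 := by
  have : jm f r ∈ RingHom.ker (algebraMap S₀ B₀) := by
    rw [← h.span_f]
    change jm f r ∈ Submodule.span S₀ (Set.range f)
    rw [jm, ← Finsupp.range_linearCombination]
    exact ⟨r, rfl⟩
  exact this

/-- Elements of the kernel of `S₀ → B₀` lift to the kernel of `S → R`. -/
lemma exists_lift_ker (g : S₀) (hg : algebraMap S₀ B₀ g = 0) : ∃ x, pr x = 0 ∧ ρ x = g := by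
  obtain ⟨g', rfl⟩ := h.ρ_surj g
  have h1 : pr g' ∈ RingHom.ker π := by
    rw [RingHom.mem_ker, h.π_pr, hg]
  rw [h.ker_π] at h1
  obtain ⟨μ, hμ, hμg⟩ := (Ideal.mem_map_iff_of_surjective pr h.pr_surj).mp h1
  refine ⟨g' - μ, ?_, ?_⟩
  · rw [map_sub, hμg, sub_self]
  · rw [map_sub, RingHom.mem_ker.mp hμ, sub_zero]

lemma κ_ρ_of_pr_eq_zero (x : S) (hx : pr x = 0) : algebraMap S₀ B₀ (ρ x) = 0 := by
  rw [← h.π_pr, hx, map_zero]

/-- Lifts of the generators `f` to the kernel of `S → R` generate it. -/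
lemma span_eq_ker (F : σ → S) (hF1 : ∀ s, pr (F s) = 0) (hF2 : ∀ s, ρ (F s) = f s) :
    Ideal.span (Set.range F) = RingHom.ker pr := by
  apply le_antisymm
  · rw [Ideal.span_le]
    rintro _ ⟨s, rfl⟩
    exact hF1 s
  · have hNK : Ideal.span (Set.range F) ≤ RingHom.ker pr := by
      rw [Ideal.span_le]
      rintro _ ⟨s, rfl⟩
      exact hF1 s
    have step : RingHom.ker pr ≤
        Ideal.span (Set.range F) ⊔ RingHom.ker ρ * RingHom.ker pr := by
      intro x hx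
      have h1 : ρ x ∈ Ideal.span (Set.range f) := by
        rw [h.span_f]
        exact h.κ_ρ_of_pr_eq_zero x hx
      change ρ x ∈ Submodule.span S₀ (Set.range f) at h1
      rw [← Finsupp.range_linearCombination] at h1
      obtain ⟨c, hc⟩ := h1
      obtain ⟨c', rfl⟩ := mr_surjective ρ h.ρ_surj c
      have h2 : ρ (jm F c') = ρ x := by
        rw [← jm_mr ρ F f hF2, ← hc]
        rfl
      have h3 : jm F c' ∈ Ideal.span (Set.range F) := by
        change jm F c' ∈ Submodule.span S (Set.range F)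
        rw [jm, ← Finsupp.range_linearCombination]
        exact ⟨c', rfl⟩
      have h4 : x - jm F c' ∈ RingHom.ker ρ * RingHom.ker pr :=
        h.inter ⟨(RingHom.ker pr).sub_mem hx (hNK h3),
          RingHom.mem_ker.mpr (by rw [map_sub, h2, sub_self])⟩
      have : x = jm F c' + (x - jm F c') := by ring
      rw [this]
      exact Submodule.add_mem_sup h3 h4
    have key : ∀ n : ℕ, RingHom.ker pr ≤
        Ideal.span (Set.range F) ⊔ RingHom.ker ρ ^ n * RingHom.ker pr := by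
      intro n
      induction n with
      | zero => rw [pow_zero, one_mul]; exact le_sup_right
      | succ n ih =>
        refine step.trans (sup_le le_sup_left ?_)
        calc RingHom.ker ρ * RingHom.ker pr
            ≤ RingHom.ker ρ * (Ideal.span (Set.range F) ⊔ RingHom.ker ρ ^ n * RingHom.ker pr) :=
              Ideal.mul_mono_right ih
          _ = RingHom.ker ρ * Ideal.span (Set.range F) ⊔
                RingHom.ker ρ * (RingHom.ker ρ ^ n * RingHom.ker pr) := Ideal.mul_sup _ _ _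
          _ ≤ Ideal.span (Set.range F) ⊔ RingHom.ker ρ ^ (n + 1) * RingHom.ker pr := by
            refine sup_le_sup Ideal.mul_le_right ?_
            rw [← mul_assoc, ← pow_succ']
    obtain ⟨n, hn⟩ := h.nil
    have := key n
    rw [hn, Ideal.zero_eq_bot, Ideal.bot_mul, sup_bot_eq] at this
    exact this

variable {F : σ → S} {F' : σ → S'}

/-- Every relation among the `f` lifts to a relation among the `F`. -/
lemma exists_lift_rel (hF1 : ∀ s, pr (F s) = 0) (hF2 : ∀ s, ρ (F s) = f s) (r : σ →₀ S₀)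
    (hr : r ∈ Q f) : ∃ q ∈ Q F, mr ρ q = r := by
  obtain ⟨r', rfl⟩ := mr_surjective ρ h.ρ_surj r
  have hspan := h.span_eq_ker F hF1 hF2
  have h1a : jm F r' ∈ RingHom.ker pr := by
    rw [← hspan]
    change jm F r' ∈ Submodule.span S (Set.range F)
    rw [jm, ← Finsupp.range_linearCombination]
    exact ⟨r', rfl⟩
  have h1b : jm F r' ∈ RingHom.ker ρ := by
    rw [RingHom.mem_ker, ← jm_mr ρ F f hF2]
    exact (mem_Q f).mp hr
  have h1 : jm F r' ∈ RingHom.ker pr ⊓ RingHom.ker ρ := ⟨h1a, h1b⟩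
  have h2 := h.inter h1
  rw [← hspan] at h2
  -- elements of `𝔪 * span F` are `jm F μ` with `μ` having coefficients in `𝔪`
  have h3 : ∀ z ∈ RingHom.ker ρ * Ideal.span (Set.range F),
      ∃ μ : σ →₀ S, (∀ s, μ s ∈ RingHom.ker ρ) ∧ jm F μ = z := by
    intro z hz
    refine Submodule.mul_induction_on hz ?_ ?_
    · intro m hm y hy
      change y ∈ Submodule.span S (Set.range F) at hy
      rw [← Finsupp.range_linearCombination] at hy
      obtain ⟨c, rfl⟩ := hy
      refine ⟨m • c, fun s => ?_, ?_⟩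
      · rw [Finsupp.smul_apply, smul_eq_mul]
        exact Ideal.mul_mem_right _ _ hm
      · rw [jm_smul']
        rfl
    · rintro y z ⟨μ₁, h1, rfl⟩ ⟨μ₂, h2, rfl⟩
      exact ⟨μ₁ + μ₂, fun s => by rw [Finsupp.add_apply]; exact add_mem (h1 s) (h2 s),
        map_add _ _ _⟩
  obtain ⟨μ, hμ1, hμ2⟩ := h3 _ h2
  refine ⟨r' - μ, ?_, ?_⟩
  · rw [mem_Q, map_sub, hμ2, sub_self]
  · rw [map_sub]
    have : mr ρ μ = 0 := by
      ext s
      rw [mr_apply]
      exact hμ1 s
    rw [this, sub_zero]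

/-- The obstruction relation: `b` is the value of the obstruction map at the relation `r`. -/
def IsOb (ρ' : S' →+* S) (ρ : S →+* S₀) (t : S') (F' : σ → S') (r : σ →₀ S₀) (b : B₀) : Prop :=
  ∃ (q' : σ →₀ S') (x : S'), mr (ρ.comp ρ') q' = r ∧ jm F' q' = t * x ∧
    algebraMap S₀ B₀ (ρ (ρ' x)) = b

omit h in
lemma IsOb.add {r₁ r₂ : σ →₀ S₀} {b₁ b₂ : B₀} (h₁ : IsOb ρ' ρ t F' r₁ b₁)
    (h₂ : IsOb ρ' ρ t F' r₂ b₂) : IsOb ρ' ρ t F' (r₁ + r₂) (b₁ + b₂) := by
  obtain ⟨q₁, x₁, ha, hb, hc⟩ := h₁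
  obtain ⟨q₂, x₂, ha', hb', hc'⟩ := h₂
  refine ⟨q₁ + q₂, x₁ + x₂, ?_, ?_, ?_⟩
  · rw [map_add, ha, ha']
  · rw [map_add, hb, hb', mul_add]
  · rw [map_add, map_add, map_add, hc, hc']

omit h in
lemma IsOb.zero : IsOb (B₀ := B₀) ρ' ρ t F' 0 0 :=
  ⟨0, 0, map_zero _, by rw [map_zero, mul_zero], by rw [map_zero, map_zero, map_zero]⟩

lemma IsOb.smul {r : σ →₀ S₀} {b : B₀} (h₁ : IsOb ρ' ρ t F' r b) (g : S₀) :
    IsOb ρ' ρ t F' (g • r) (g • b) := by
  obtain ⟨q, x, ha, hb, hc⟩ := h₁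
  obtain ⟨g', hg'⟩ := h.ρρ'_surj g
  rw [RingHom.comp_apply] at hg'
  refine ⟨g' • q, g' * x, ?_, ?_, ?_⟩
  · rw [mr_smul, ha, RingHom.comp_apply, hg']
  · rw [jm_smul', hb]
    ring
  · rw [map_mul, map_mul, map_mul, hg', hc, Algebra.smul_def]

variable (hF1 : ∀ s, pr (F s) = 0) (hF2 : ∀ s, ρ (F s) = f s) (hF' : ∀ s, ρ' (F' s) = F s)

include hF1 hF2 hF' in
lemma isOb_exists (r : σ →₀ S₀) (hr : r ∈ Q f) : ∃ b : B₀, IsOb ρ' ρ t F' r b := by
  obtain ⟨q, hq, rfl⟩ := h.exists_lift_rel hF1 hF2 r hr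
  obtain ⟨q', rfl⟩ := mr_surjective ρ' h.ρ'_surj q
  have h1 : ρ' (jm F' q') = 0 := by
    rw [← jm_mr ρ' F' F hF']
    exact (mem_Q F).mp hq
  obtain ⟨x, hx⟩ := h.exists_of_ρ'_eq_zero _ h1
  exact ⟨_, q', x, (mr_comp ρ' ρ q').symm, hx, rfl⟩

include hF1 hF2 hF' in
/-- Well-definedness of the obstruction. -/
lemma κ_eq_zero_of_mr_eq_zero (d : σ →₀ S') (x : S') (hd : mr (ρ.comp ρ') d = 0)
    (hx : jm F' d = t * x) : algebraMap S₀ B₀ (ρ (ρ' x)) = 0 := by
  have hspan := h.span_eq_ker F hF1 hF2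
  have hF'' : ∀ s, (ρ.comp ρ') (F' s) = f s := fun s => by
    rw [RingHom.comp_apply, hF', hF2]
  -- the general claim over `ker ρ • Q F`
  have claim : ∀ e ∈ RingHom.ker ρ • Q F, ∀ (d : σ →₀ S') (x : S'), mr ρ' d = e →
      jm F' d = t * x → algebraMap S₀ B₀ (ρ (ρ' x)) = 0 := by
    intro e he
    refine Submodule.smul_induction_on' (p := fun e _ => ∀ (d : σ →₀ S') (x : S'), mr ρ' d = e →
      jm F' d = t * x → algebraMap S₀ B₀ (ρ (ρ' x)) = 0) he ?_ ?_
    · intro m hm qq hqq d x hd hx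
      obtain ⟨m', rfl⟩ := h.ρ'_surj m
      obtain ⟨qq', rfl⟩ := mr_surjective ρ' h.ρ'_surj qq
      have h1 : mr ρ' (d - m' • qq') = 0 := by
        rw [map_sub, hd, mr_smul, sub_self]
      obtain ⟨u, hu⟩ := exists_smul_of_mr_eq_zero ρ' t h.ker_ρ' _ h1
      have h2 : d = m' • qq' + t • u := by rw [← hu]; abel
      have h3 : ρ' (jm F' qq') = 0 := by
        rw [← jm_mr ρ' F' F hF']
        exact (mem_Q F).mp hqq
      obtain ⟨y, hy⟩ := h.exists_of_ρ'_eq_zero _ h3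
      have h4 : t * m' = 0 := h.t_kill m' hm
      have h5 : t * x = t * jm F' u := by
        rw [← hx, h2, map_add, jm_smul', jm_smul', hy]
        have : m' * (t * y) = (t * m') * y := by ring
        rw [this, h4, zero_mul, zero_add]
      have h6 : ρ (ρ' (jm F' u)) = jm f (mr (ρ.comp ρ') u) :=
        (jm_mr (ρ.comp ρ') F' f hF'' u).symm
      rw [h.ρ₀_eq_of_t_mul_eq h5, h6]
      exact h.κ_jm_f _
    · intro e₁ he₁ e₂ he₂ ih₁ ih₂ d x hd hx
      have he₁Q : e₁ ∈ Q F := Submodule.smul_le_right he₁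
      obtain ⟨d₁, rfl⟩ := mr_surjective ρ' h.ρ'_surj e₁
      have h3 : ρ' (jm F' d₁) = 0 := by
        rw [← jm_mr ρ' F' F hF']
        exact (mem_Q F).mp he₁Q
      obtain ⟨x₁, hx₁⟩ := h.exists_of_ρ'_eq_zero _ h3
      have r1 := ih₁ d₁ x₁ rfl hx₁
      have r2 := ih₂ (d - d₁) (x - x₁) (by rw [map_sub, hd]; abel)
        (by rw [map_sub, hx, hx₁, mul_sub])
      rw [map_sub, map_sub, map_sub, r1, sub_zero] at r2
      exact r2
  have he : mr ρ' d ∈ RingHom.ker ρ • Q F := by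
    apply h.rel F hspan
    · rw [mem_Q, jm_mr ρ' F' F hF', hx, map_mul, h.ρ'_t, zero_mul]
    · intro s
      rw [RingHom.mem_ker, mr_apply]
      have := DFunLike.congr_fun hd s
      rwa [mr_apply] at this
  exact claim _ he d x rfl hx

include hF1 hF2 hF' in
lemma isOb_unique {r : σ →₀ S₀} {b b' : B₀} (h₁ : IsOb ρ' ρ t F' r b)
    (h₂ : IsOb ρ' ρ t F' r b') : b = b' := by
  obtain ⟨q₁, x₁, ha, hb, hc⟩ := h₁
  obtain ⟨q₂, x₂, ha', hb', hc'⟩ := h₂
  have := h.κ_eq_zero_of_mr_eq_zero hF1 hF2 hF' (q₁ - q₂) (x₁ - x₂)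
    (by rw [map_sub, ha, ha', sub_self]) (by rw [map_sub, hb, hb', mul_sub])
  rw [map_sub, map_sub, map_sub, hc, hc', sub_eq_zero] at this
  exact this

include hF2 hF' in
lemma isOb_koszul (a b : σ →₀ S₀) : IsOb (B₀ := B₀) ρ' ρ t F' (jm f a • b - jm f b • a) 0 := by
  have hF'' : ∀ s, (ρ.comp ρ') (F' s) = f s := fun s => by
    rw [RingHom.comp_apply, hF', hF2]
  obtain ⟨a', rfl⟩ := mr_surjective (ρ.comp ρ') h.ρρ'_surj a
  obtain ⟨b', rfl⟩ := mr_surjective (ρ.comp ρ') h.ρρ'_surj b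
  refine ⟨jm F' a' • b' - jm F' b' • a', 0, ?_, ?_, ?_⟩
  · rw [map_sub, mr_smul, mr_smul, ← jm_mr (ρ.comp ρ') F' f hF'',
      ← jm_mr (ρ.comp ρ') F' f hF'']
  · rw [map_sub, jm_smul', jm_smul', mul_zero]
    ring
  · rw [map_zero, map_zero, map_zero]

include hF1 hF2 hF' in
/-- The main existence statement: when `T² = 0` there is an ideal `K'` of `S'` lifting the kernel
of `S → R` and meeting `t S'` in `t I`. -/
theorem exists_lift_ideal (hT2 : H2Vanishes f B₀) :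
    ∃ K' : Ideal S', K'.map ρ' = RingHom.ker pr ∧
      ∀ x, t * x ∈ K' → algebraMap S₀ B₀ (ρ (ρ' x)) = 0 := by
  classical
  have hspan := h.span_eq_ker F hF1 hF2
  have hF'' : ∀ s, (ρ.comp ρ') (F' s) = f s := fun s => by
    rw [RingHom.comp_apply, hF', hF2]
  -- the obstruction map
  have hex := h.isOb_exists hF1 hF2 hF'
  let φfun : Q f → B₀ := fun r => Classical.choose (hex r.1 r.2)
  have hφfun : ∀ r : Q f, IsOb ρ' ρ t F' (r : σ →₀ S₀) (φfun r) :=
    fun r => Classical.choose_spec (hex r.1 r.2)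
  have huniq := fun {r : σ →₀ S₀} {b b' : B₀} => h.isOb_unique hF1 hF2 hF' (r := r) (b := b) (b' := b')
  let φ : Q f →ₗ[S₀] B₀ :=
    { toFun := φfun
      map_add' := fun r₁ r₂ => huniq (hφfun (r₁ + r₂)) ((hφfun r₁).add (hφfun r₂))
      map_smul' := fun g r => huniq (hφfun (g • r)) (CoreHypL.IsOb.smul h (hφfun r) g) }
  have hφ0 : ∀ q : Q f, (q : σ →₀ S₀) ∈ F0 f → φ q = 0 := by
    intro q hq
    have h1 : IsOb (B₀ := B₀) ρ' ρ t F' (q : σ →₀ S₀) 0 := by
      refine Submodule.span_induction (p := fun y _ => IsOb (B₀ := B₀) ρ' ρ t F' y 0) ?_ ?_ ?_ ?_ hq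
      · rintro _ ⟨a, b, rfl⟩
        exact h.isOb_koszul hF2 hF' a b
      · exact IsOb.zero
      · intro y z _ _ hy hz
        have := hy.add hz
        rwa [add_zero] at this
      · intro g y _ hy
        have := CoreHypL.IsOb.smul h hy g
        rwa [smul_zero] at this
    exact huniq (hφfun q) h1
  obtain ⟨ψ, hψ⟩ := hT2 φ hφ0
  -- correct the lifts
  have hg : ∀ s, ∃ g : S₀, algebraMap S₀ B₀ g = ψ (Finsupp.single s 1) := fun s => h.κ_surj _
  choose g hg using hg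
  have hG : ∀ s, ∃ G : S', (ρ.comp ρ') G = g s := fun s => h.ρρ'_surj (g s)
  choose G hG using hG
  let F'' : σ → S' := fun s => F' s - t * G s
  have hF''jm : ∀ q' : σ →₀ S', jm F'' q' = jm F' q' - t * jm G q' := by
    intro q'
    induction q' using Finsupp.induction_linear with
    | zero => simp
    | add a b ha hb => rw [map_add, map_add, map_add, ha, hb]; ring
    | single s x => rw [jm_single, jm_single, jm_single]; ring
  have hψjm : ∀ r : σ →₀ S₀, ψ r = algebraMap S₀ B₀ (jm g r) := by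
    intro r
    induction r using Finsupp.induction_linear with
    | zero => simp
    | add a b ha hb => rw [map_add, map_add, map_add, ha, hb]
    | single s x =>
      have : Finsupp.single s x = x • Finsupp.single s (1 : S₀) := by
        rw [Finsupp.smul_single, smul_eq_mul, mul_one]
      rw [this, map_smul, ← hg, jm_smul', jm_single, one_mul, map_mul, Algebra.smul_def]
  have hGg : ∀ s, (ρ.comp ρ') (G s) = g s := hG
  -- key property of the corrected lifts
  have key : ∀ (q' : σ →₀ S') (x : S'), jm F' q' = t * x →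
      ∃ y, jm F'' q' = t * y ∧ algebraMap S₀ B₀ (ρ (ρ' y)) = 0 := by
    intro q' x hx
    refine ⟨x - jm G q', ?_, ?_⟩
    · rw [hF''jm, hx, mul_sub]
    · set r := mr (ρ.comp ρ') q' with hr
      have hrQ : r ∈ Q f := by
        rw [mem_Q, hr, jm_mr (ρ.comp ρ') F' f hF'', hx, RingHom.comp_apply, map_mul, h.ρ'_t,
          zero_mul, map_zero]
      have h1 : IsOb ρ' ρ t F' r (algebraMap S₀ B₀ (ρ (ρ' x))) := ⟨q', x, rfl, hx, rfl⟩
      have h2 : φ ⟨r, hrQ⟩ = algebraMap S₀ B₀ (ρ (ρ' x)) := huniq (hφfun ⟨r, hrQ⟩) h1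
      have h3 : ψ r = algebraMap S₀ B₀ (ρ (ρ' (jm G q'))) := by
        rw [hψjm, hr, jm_mr (ρ.comp ρ') G g hGg]
        rfl
      rw [map_sub, map_sub, map_sub, ← h2, ← h3, hψ ⟨r, hrQ⟩, sub_self]
  -- the ideal
  let T : Ideal S' := Ideal.span {t} * (RingHom.ker (algebraMap S₀ B₀)).comap (ρ.comp ρ')
  have hT : ∀ z ∈ T, ∃ x₀ : S', algebraMap S₀ B₀ (ρ (ρ' x₀)) = 0 ∧ z = t * x₀ := by
    intro z hz
    refine Submodule.mul_induction_on hz ?_ ?_
    · intro a ha b hb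
      obtain ⟨c, rfl⟩ := Ideal.mem_span_singleton'.mp ha
      have hb' : algebraMap S₀ B₀ (ρ (ρ' b)) = 0 := hb
      refine ⟨c * b, ?_, ?_⟩
      · rw [map_mul, map_mul, map_mul, hb', mul_zero]
      · ring
    · rintro y z ⟨g₁, h1, rfl⟩ ⟨g₂, h2, rfl⟩
      exact ⟨g₁ + g₂, by rw [map_add, map_add, map_add, h1, h2, add_zero], by rw [mul_add]⟩
  refine ⟨Ideal.span (Set.range F'') ⊔ T, ?_, ?_⟩
  · rw [Ideal.map_sup, Ideal.map_span, ← Set.range_comp]
    have h1 : (ρ' ∘ F'') = F := by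
      funext s
      show ρ' (F' s - t * G s) = F s
      rw [map_sub, map_mul, h.ρ'_t, zero_mul, sub_zero, hF']
    have h2 : T.map ρ' = ⊥ := by
      rw [eq_bot_iff, Ideal.map_le_iff_le_comap]
      intro z hz
      obtain ⟨g₀, -, rfl⟩ := hT z hz
      rw [Ideal.mem_comap, map_mul, h.ρ'_t, zero_mul]
      exact Ideal.zero_mem _
    rw [h1, h2, sup_bot_eq, hspan]
  · intro x hx
    obtain ⟨y, hy, z, hz, hyz⟩ := Submodule.mem_sup.mp hx
    change y ∈ Submodule.span S' (Set.range F'') at hy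
    rw [← Finsupp.range_linearCombination] at hy
    obtain ⟨q', rfl⟩ := hy
    obtain ⟨x₀, hx₀, rfl⟩ := hT z hz
    have h1 : jm F'' q' = t * (x - x₀) := by
      rw [mul_sub, ← hyz]
      show jm F'' q' = jm F'' q' + t * x₀ - t * x₀
      ring
    have h2 : jm F' q' = t * (x - x₀ + jm G q') := by
      have := hF''jm q'
      rw [h1] at this
      rw [mul_add, this]
      ring
    obtain ⟨y, hy1, hy2⟩ := key q' _ h2
    have h3 : ρ (ρ' y) = ρ (ρ' (x - x₀)) := h.ρ₀_eq_of_t_mul_eq (hy1.symm.trans h1)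
    rw [h3, map_sub, map_sub, map_sub, hx₀, sub_zero] at hy2
    exact hy2

end CoreHypL

end Groth.Agent.Lib.Helper97.DefLCI
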