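import Groth.Agent.Lib.Helper97.DefLCI.CoreL
import Groth.Agent.Lib.Helper97.DefLift.Split
import Groth.Agent.Lib.Helper97.DefLift.FlatSmall
import Groth.Agent.Lib.Helper97.DefAff.RigidTrivial

/-!
# The lifting problem for polynomial rings over a small extension of local Artinian rings
(no algebra structure over the residue field)
-/

set_option autoImplicit false

namespace Groth.Agent.Lib.Helper97.DefLCI

open Groth.Agent.Lib.Helper97.CotT2 Groth.Agent.Lib.Helper97.DefAff MvPolynomial
open Groth.Agent.Lib.Helper97.DefLift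

universe u

variable {k : Type u} [Field k] {A' A : Type u} [CommRing A'] [CommRing A]
  [IsLocalRing A'] [IsLocalRing A] [IsArtinianRing A'] [IsArtinianRing A]
  (eA' : A' →+* k) (eA : A →+* k) (p : A' →+* A) (hpe : eA.comp p = eA')
  (heA : Function.Surjective eA)
  (hp : Function.Surjective p) (t₀ : A') (hker : RingHom.ker p = Ideal.span {t₀})
  (ht₀ : t₀ ≠ 0) (hmt : ∀ c ∈ IsLocalRing.maximalIdeal A', c * t₀ = 0)
  {B₀ : Type u} [CommRing B₀] {ι : Type*} {σ : Type*}
  [Algebra (MvPolynomial ι k) B₀]
  (hκ : Function.Surjective (algebraMap (MvPolynomial ι k) B₀))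
  (f : σ → MvPolynomial ι k)
  (hf : Ideal.span (Set.range f) = RingHom.ker (algebraMap (MvPolynomial ι k) B₀))
  {R : Type u} [CommRing R] (a : A →+* R) (π : R →+* B₀) (ha : a.Flat)
  (hπ : Function.Surjective π) (hkerπ : RingHom.ker π = (RingHom.ker eA).map a)
  (hπa : ∀ c : A, π (a c) = algebraMap (MvPolynomial ι k) B₀ (C (eA c)))

lemma ker_eq_maximalIdeal' {A : Type*} [CommRing A] [IsLocalRing A] (e : A →+* k)
    (he : Function.Surjective e) : RingHom.ker e = IsLocalRing.maximalIdeal A :=
  IsLocalRing.eq_maximalIdeal (RingHom.ker_isMaximal_of_surjective e he)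

include hpe in
lemma eA_p' (c : A') : eA (p c) = eA' c := congrArg (fun f => f c) hpe

include hpe heA hp in
lemma heA'_surj : Function.Surjective eA' := by
  rw [← hpe]
  exact heA.comp hp

include heA in
lemma ker_mapE :
    RingHom.ker (map eA : MvPolynomial ι A →+* MvPolynomial ι k) =
      (IsLocalRing.maximalIdeal A).map (C : A →+* MvPolynomial ι A) := by
  rw [← ker_eq_maximalIdeal' eA heA]
  exact MvPolynomial.ker_map eA

include hpe heA hp in
lemma ker_mapE_comp :
    RingHom.ker ((map eA : MvPolynomial ι A →+* MvPolynomial ι k).comp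
      (map p : MvPolynomial ι A' →+* MvPolynomial ι A)) =
    (IsLocalRing.maximalIdeal A').map (C : A' →+* MvPolynomial ι A') := by
  rw [← ker_eq_maximalIdeal' eA' (heA'_surj eA' eA p hpe heA hp)]
  have : (map eA : MvPolynomial ι A →+* MvPolynomial ι k).comp
      (map p : MvPolynomial ι A' →+* MvPolynomial ι A) =
      (map eA' : MvPolynomial ι A' →+* MvPolynomial ι k) := by
    refine RingHom.ext fun x => ?_
    show map eA (map p x) = map eA' x
    rw [MvPolynomial.map_map, hpe]
  rw [this]
  exact MvPolynomial.ker_map eA'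

variable (r : ι → R) (hr : ∀ i, π (r i) = algebraMap (MvPolynomial ι k) B₀ (X i))

include hp hker ht₀ hmt hpe heA ha hπ hkerπ hπa hr hκ hf in
theorem coreHypL_mvPolynomial :
    CoreHypL (map p : MvPolynomial ι A' →+* MvPolynomial ι A)
      (map eA : MvPolynomial ι A →+* MvPolynomial ι k) (eval₂Hom a r) π
      (C t₀ : MvPolynomial ι A') f := by
  letI algR : Algebra A R := a.toAlgebra
  have hflat : Module.Flat A R := ha
  have hfree : Module.Free A R :=
    Groth.Agent.Lib.Helper6.NilpNakayama.free_of_flat_of_nilpotent isNilpotent_maximalIdeal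
  let prA : MvPolynomial ι A →ₐ[A] R :=
    { eval₂Hom a r with
      commutes' := fun c => eval₂Hom_C a r c }
  have hprA : ∀ x, prA x = eval₂Hom a r x := fun x => rfl
  have hπpr : ∀ x, π (eval₂Hom a r x) = algebraMap (MvPolynomial ι k) B₀ (map eA x) := by
    intro x
    have : π.comp (eval₂Hom a r) = (algebraMap (MvPolynomial ι k) B₀).comp (map eA) := by
      apply MvPolynomial.ringHom_ext
      · intro c
        show π (eval₂Hom a r (C c)) = algebraMap (MvPolynomial ι k) B₀ (map eA (C c))
        rw [eval₂Hom_C, hπa, MvPolynomial.map_C]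
      · intro i
        show π (eval₂Hom a r (X i)) = algebraMap (MvPolynomial ι k) B₀ (map eA (X i))
        rw [eval₂Hom_X', hr, MvPolynomial.map_X]
    exact congrArg (fun f => f x) this
  have hρsurj : Function.Surjective (map eA : MvPolynomial ι A →+* MvPolynomial ι k) :=
    MvPolynomial.map_surjective eA heA
  have hprsurj : Function.Surjective (eval₂Hom a r) := by
    have h1 : LinearMap.range prA.toLinearMap = ⊤ := by
      apply Groth.Agent.Lib.Helper6.NilpNakayama.eq_top_of_sup_smul_top_of_isNilpotent
        (IsLocalRing.maximalIdeal A) isNilpotent_maximalIdeal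
      rw [eq_top_iff]
      intro y _
      obtain ⟨g, hg⟩ := hκ (π y)
      obtain ⟨g', rfl⟩ := hρsurj g
      have h2 : π (y - eval₂Hom a r g') = 0 := by
        rw [map_sub, hπpr, hg, sub_self]
      have h3 : y - eval₂Hom a r g' ∈
          IsLocalRing.maximalIdeal A • (⊤ : Submodule A R) := by
        rw [Ideal.smul_top_eq_map, ← ker_eq_maximalIdeal' eA heA]
        show _ ∈ (RingHom.ker eA).map a
        rw [← hkerπ]
        exact h2
      have h4 : y = prA g' + (y - eval₂Hom a r g') := by
        rw [hprA]; ring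
      rw [h4]
      exact Submodule.add_mem_sup (LinearMap.mem_range_self _ _) h3
    intro y
    have : y ∈ LinearMap.range prA.toLinearMap := by rw [h1]; trivial
    obtain ⟨x, hx⟩ := this
    exact ⟨x, hx⟩
  have hkerρ : RingHom.ker (map eA : MvPolynomial ι A →+* MvPolynomial ι k) =
      (IsLocalRing.maximalIdeal A).map (algebraMap A (MvPolynomial ι A)) := ker_mapE eA heA
  refine
    { ρ'_surj := MvPolynomial.map_surjective p hp
      ker_ρ' := ?_
      ρ_surj := hρsurj
      t_kill := ?_
      t_inj := ?_
      pr_surj := hprsurj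
      π_pr := hπpr
      ker_π := ?_
      nil := ?_
      inter := ?_
      rel := ?_
      span_f := hf
      κ_surj := hκ }
  · rw [MvPolynomial.ker_map, hker, Ideal.map_span, Set.image_singleton]
  · intro x hx
    have hx' : x ∈ RingHom.ker ((map eA : MvPolynomial ι A →+* MvPolynomial ι k).comp
      (map p : MvPolynomial ι A' →+* MvPolynomial ι A)) := hx
    rw [ker_mapE_comp eA' eA p hpe heA hp, MvPolynomial.mem_map_C_iff] at hx'
    ext m
    rw [coeff_C_mul, coeff_zero, mul_comm]
    exact hmt _ (hx' m)
  · intro x hx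
    have hx' : x ∈ RingHom.ker ((map eA : MvPolynomial ι A →+* MvPolynomial ι k).comp
        (map p : MvPolynomial ι A' →+* MvPolynomial ι A)) := by
      rw [ker_mapE_comp eA' eA p hpe heA hp, MvPolynomial.mem_map_C_iff]
      intro m
      have h1 := congrArg (coeff m) hx
      rw [coeff_C_mul, coeff_zero] at h1
      by_contra hne
      have hu : IsUnit (coeff m x) := by
        by_contra hnu
        exact hne ((IsLocalRing.mem_maximalIdeal _).mpr hnu)
      exact ht₀ (hu.mul_left_eq_zero.mp h1)
    exact hx'
  · rw [hkerπ, ker_mapE eA heA, ker_eq_maximalIdeal' eA heA, Ideal.map_map]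
    congr 1
    refine RingHom.ext fun c => ?_
    exact (eval₂Hom_C a r c).symm
  · rw [ker_mapE eA heA]
    exact isNilpotent_map _ isNilpotent_maximalIdeal
  · rw [hkerρ]
    exact ker_inf_map_le prA hprsurj (IsLocalRing.maximalIdeal A)
  · intro F hF q hq hqI
    rw [hkerρ] at hqI ⊢
    exact mem_smul_Q_of_forall_mem prA hprsurj F hF (IsLocalRing.maximalIdeal A) q hq hqI

end Groth.Agent.Lib.Helper97.DefLCI
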