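import Groth.Agent.Lib.Helper97.DefLCI.InstL

/-!
# Lifting flat deformations along a small extension of local Artinian rings when `T² = 0`
(ring-level statement, no algebra structure over the residue field)
-/

set_option autoImplicit false

namespace Groth.Agent.Lib.Helper97.DefLCI

open Groth.Agent.Lib.Helper97.CotT2 Groth.Agent.Lib.Helper97.DefAff MvPolynomial
open Groth.Agent.Lib.Helper97.DefLift

universe u

variable {k : Type u} [Field k] {A' A : Type u} [CommRing A'] [CommRing A]
  [IsLocalRing A'] [IsLocalRing A] [IsArtinianRing A'] [IsArtinianRing A]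
  (eA' : A' →+* k) (eA : A →+* k) (p : A' →+* A) (hpe : eA.comp p = eA')
  (heA : Function.Surjective eA)
  (hp : Function.Surjective p) (t₀ : A') (hker : RingHom.ker p = Ideal.span {t₀})
  (ht₀ : t₀ ≠ 0) (hmt : ∀ c ∈ IsLocalRing.maximalIdeal A', c * t₀ = 0)
  {B₀ : Type u} [CommRing B₀] {ι : Type} {σ : Type*}
  [Algebra (MvPolynomial ι k) B₀]
  (hκ : Function.Surjective (algebraMap (MvPolynomial ι k) B₀))
  (f : σ → MvPolynomial ι k)
  (hf : Ideal.span (Set.range f) = RingHom.ker (algebraMap (MvPolynomial ι k) B₀))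
  {R : Type u} [CommRing R] (a : A →+* R) (π : R →+* B₀) (ha : a.Flat)
  (hπ : Function.Surjective π) (hkerπ : RingHom.ker π = (RingHom.ker eA).map a)
  (hπa : ∀ c : A, π (a c) = algebraMap (MvPolynomial ι k) B₀ (C (eA c)))

include hpe heA hp hker ht₀ hmt ha hπ hkerπ hπa hκ hf in
theorem exists_lift_ringL (hT2 : H2Vanishes f B₀) :
    ∃ (R' : Type u) (_ : CommRing R') (a' : A' →+* R') (π' : R' →+* B₀) (q : R' →+* R),
      a'.Flat ∧ Function.Surjective π' ∧ RingHom.ker π' = (RingHom.ker eA').map a' ∧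
      (∀ c, π' (a' c) = algebraMap (MvPolynomial ι k) B₀ (C (eA' c))) ∧ Function.Surjective q ∧
      RingHom.ker q = (RingHom.ker p).map a' ∧ (∀ c, q (a' c) = a (p c)) ∧
      (∀ x, π (q x) = π' x) := by
  classical
  -- lifts of the variables
  have hr : ∀ i : ι, ∃ y : R, π y = algebraMap (MvPolynomial ι k) B₀ (X i) := fun i => hπ _
  choose r hr using hr
  have h := coreHypL_mvPolynomial eA' eA p hpe heA hp t₀ hker ht₀ hmt hκ f hf a π ha hπ hkerπ hπa
    r hr
  set pr := (eval₂Hom a r : MvPolynomial ι A →+* R) with hprdef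
  let ρ' : MvPolynomial ι A' →+* MvPolynomial ι A := map p
  let ρ : MvPolynomial ι A →+* MvPolynomial ι k := map eA
  -- lifts of the relations
  have hF : ∀ s : σ, ∃ x : MvPolynomial ι A, pr x = 0 ∧ ρ x = f s :=
    fun s => h.exists_lift_ker _ (h.f_mem_ker s)
  choose F hF1 hF2 using hF
  have hF' : ∀ s : σ, ∃ x : MvPolynomial ι A', ρ' x = F s := fun s => h.ρ'_surj _
  choose F' hF' using hF'
  obtain ⟨K', hK'1, hK'2⟩ := h.exists_lift_ideal hF1 hF2 hF' hT2
  -- the maximal ideals
  have heA' : Function.Surjective eA' := heA'_surj eA' eA p hpe heA hp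
  have hmA' : RingHom.ker eA' = IsLocalRing.maximalIdeal A' := ker_eq_maximalIdeal' eA' heA'
  have hmA : RingHom.ker eA = IsLocalRing.maximalIdeal A := ker_eq_maximalIdeal' eA heA
  have hkerρ₀ := ker_mapE_comp eA' eA p hpe heA hp (ι := ι)
  -- the ring
  let a' : A' →+* MvPolynomial ι A' ⧸ K' := algebraMap A' (MvPolynomial ι A' ⧸ K')
  have ha'C : ∀ c, a' c = Ideal.Quotient.mk K' (C c) := fun c => rfl
  have hK'le : K' ≤ RingHom.ker (pr.comp ρ') := by
    intro x hx
    rw [RingHom.mem_ker, RingHom.comp_apply, ← RingHom.mem_ker, ← hK'1]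
    exact Ideal.mem_map_of_mem _ hx
  let q : MvPolynomial ι A' ⧸ K' →+* R := Ideal.Quotient.lift K' (pr.comp ρ') hK'le
  have hq_mk : ∀ x, q (Ideal.Quotient.mk K' x) = pr (ρ' x) := fun x => rfl
  have hqa : ∀ c, q (a' c) = a (p c) := by
    intro c
    show pr (ρ' (C c)) = a (p c)
    rw [show ρ' (C c) = C (p c) from MvPolynomial.map_C _ c, hprdef, eval₂Hom_C]
  have hqsurj : Function.Surjective q := by
    intro y
    obtain ⟨x, rfl⟩ := h.pr_surj y
    obtain ⟨x', rfl⟩ := h.ρ'_surj x
    exact ⟨Ideal.Quotient.mk K' x', rfl⟩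
  -- elements of the kernel of `q`
  have hqker : ∀ x, q (Ideal.Quotient.mk K' x) = 0 →
      ∃ z, Ideal.Quotient.mk K' x = a' t₀ * Ideal.Quotient.mk K' z := by
    intro x hx
    rw [hq_mk] at hx
    have h1 : ρ' x ∈ K'.map ρ' := by rw [hK'1]; exact hx
    obtain ⟨y, hy, hyx⟩ := (Ideal.mem_map_iff_of_surjective _ h.ρ'_surj).mp h1
    have h2 : ρ' (x - y) = 0 := by rw [map_sub, hyx, sub_self]
    obtain ⟨z, hz⟩ := h.exists_of_ρ'_eq_zero _ h2
    refine ⟨z, ?_⟩
    have h3 : x = y + C t₀ * z := by rw [← hz]; ring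
    rw [h3, map_add, Ideal.Quotient.eq_zero_iff_mem.mpr hy, zero_add, map_mul]
    rfl
  -- elements mapping to zero in `B₀`
  have hmem : ∀ x, algebraMap (MvPolynomial ι k) B₀ (ρ (ρ' x)) = 0 →
      Ideal.Quotient.mk K' x ∈ (IsLocalRing.maximalIdeal A').map a' := by
    intro x hx
    obtain ⟨y, hy1, hy2⟩ := h.exists_lift_ker _ hx
    have h1 : y ∈ K'.map ρ' := by rw [hK'1]; exact hy1
    obtain ⟨y', hy', rfl⟩ := (Ideal.mem_map_iff_of_surjective _ h.ρ'_surj).mp h1
    have h2 : x - y' ∈ (IsLocalRing.maximalIdeal A').map (C : A' →+* MvPolynomial ι A') := by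
      rw [← hkerρ₀, RingHom.mem_ker, RingHom.comp_apply, map_sub, map_sub]
      show ρ (ρ' x) - ρ (ρ' y') = 0
      rw [hy2, sub_self]
    have h3 : Ideal.Quotient.mk K' x = Ideal.Quotient.mk K' (x - y') := by
      rw [map_sub, Ideal.Quotient.eq_zero_iff_mem.mpr hy', sub_zero]
    rw [h3]
    have h4 := Ideal.mem_map_of_mem (Ideal.Quotient.mk K') h2
    rw [Ideal.map_map] at h4
    exact h4
  let π' : MvPolynomial ι A' ⧸ K' →+* B₀ := π.comp q
  have hπ'mk : ∀ x, π' (Ideal.Quotient.mk K' x) =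
      algebraMap (MvPolynomial ι k) B₀ (ρ (ρ' x)) := by
    intro x
    show π (pr (ρ' x)) = _
    exact h.π_pr _
  have ht𝔪 : t₀ ∈ IsLocalRing.maximalIdeal A' := by
    have h1 : RingHom.ker p ≤ IsLocalRing.maximalIdeal A' :=
      IsLocalRing.le_maximalIdeal (RingHom.ker_ne_top _)
    apply h1
    rw [hker]
    exact Ideal.mem_span_singleton_self t₀
  refine ⟨MvPolynomial ι A' ⧸ K', inferInstance, a', π', q, ?_, hπ.comp hqsurj, ?_, ?_, hqsurj,
    ?_, hqa, fun x => rfl⟩
  · -- flatness
    letI algR : Algebra A R := a.toAlgebra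
    have hflatR : Module.Flat A R := ha
    show (algebraMap A' (MvPolynomial ι A' ⧸ K')).Flat
    rw [RingHom.flat_algebraMap_iff]
    refine flat_of_small (isNilpotent_maximalIdeal (A := A)) p hp t₀ hker
      (IsLocalRing.maximalIdeal A') hmt ht𝔪 q.toAddMonoidHom hqsurj ?_ ?_ ?_
    · intro c x
      show q (c • x) = a (p c) * q x
      rw [Algebra.smul_def, map_mul]
      exact congrArg (· * q x) (hqa c)
    · intro x hx
      obtain ⟨x, rfl⟩ := Ideal.Quotient.mk_surjective x
      obtain ⟨z, hz⟩ := hqker x hx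
      exact ⟨Ideal.Quotient.mk K' z, by rw [Algebra.smul_def]; exact hz⟩
    · intro x hx
      obtain ⟨x, rfl⟩ := Ideal.Quotient.mk_surjective x
      rw [Ideal.smul_top_eq_map]
      apply hmem
      apply hK'2
      have h1 : Ideal.Quotient.mk K' (C t₀ * x) = 0 := by
        rw [map_mul]
        rw [Algebra.smul_def] at hx
        exact hx
      exact Ideal.Quotient.eq_zero_iff_mem.mp h1
  · -- the kernel of `π'`
    rw [hmA']
    apply le_antisymm
    · intro x hx
      obtain ⟨x, rfl⟩ := Ideal.Quotient.mk_surjective x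
      apply hmem
      rw [← hπ'mk]
      exact hx
    · rw [Ideal.map_le_iff_le_comap]
      intro c hc
      rw [Ideal.mem_comap, RingHom.mem_ker]
      show π (q (a' c)) = 0
      rw [hqa, hπa, eA_p' eA' eA p hpe]
      have : eA' c = 0 := by
        rw [← hmA'] at hc
        exact hc
      rw [this, map_zero, map_zero]
  · intro c
    show π (q (a' c)) = _
    rw [hqa, hπa, eA_p' eA' eA p hpe]
  · -- the kernel of `q`
    rw [hker, Ideal.map_span, Set.image_singleton]
    apply le_antisymm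
    · intro x hx
      obtain ⟨x, rfl⟩ := Ideal.Quotient.mk_surjective x
      obtain ⟨z, hz⟩ := hqker x hx
      rw [hz]
      exact Ideal.mul_mem_right _ _ (Ideal.subset_span rfl)
    · rw [Ideal.span_le]
      rintro _ rfl
      show q (a' t₀) = 0
      rw [hqa]
      have : p t₀ = 0 := by
        have : t₀ ∈ RingHom.ker p := by rw [hker]; exact Ideal.mem_span_singleton_self t₀
        exact this
      rw [this, map_zero]

end Groth.Agent.Lib.Helper97.DefLCI
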