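import Groth.Prelude.Def_ArtFun4
import Groth.Agent.Lib.Helper97.DefTors.SpecPB

/-!
# Deformations of an affine scheme over a general base `Λ` as ring data
-/

set_option autoImplicit false

namespace Groth.Agent.Lib.Helper97.DefLCI

open CategoryTheory CategoryTheory.Limits AlgebraicGeometry
open Groth.Agent.Lib.Helper97.DefAff Groth.Agent.Lib.Helper97.DefLift
open Groth.Agent.Lib.Helper97.DefTors

universe u

section General

variable {k A : Type u} [CommRing k] [CommRing A] (e : A →+* k)
variable {X X' : Scheme.{u}} {hX : X ⟶ Spec (CommRingCat.of k)} {i : X ⟶ X'}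
  {g : X' ⟶ Spec (CommRingCat.of A)}

lemma appTop_comp_baseMap' (hsq : IsPullback i hX g (Spec.map (CommRingCat.ofHom e))) :
    i.appTop.hom.comp (baseMap g) = (baseMap hX).comp e := by
  have hw := hsq.w
  have h1 : (i ≫ g).appTop = (hX ≫ Spec.map (CommRingCat.ofHom e)).appTop := by rw [hw]
  rw [Scheme.Hom.comp_appTop, Scheme.Hom.comp_appTop] at h1
  have hnat := Scheme.ΓSpecIso_inv_naturality (CommRingCat.ofHom e)
  ext a
  have h2 := congrArg (fun f => f.hom ((Scheme.ΓSpecIso (CommRingCat.of A)).inv.hom a)) h1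
  have h3 := congrArg (fun f => f.hom a) hnat
  change i.appTop.hom (g.appTop.hom ((Scheme.ΓSpecIso (CommRingCat.of A)).inv.hom a)) =
    hX.appTop.hom ((Scheme.ΓSpecIso (CommRingCat.of k)).inv.hom (e a))
  change (Scheme.ΓSpecIso (CommRingCat.of k)).inv.hom (e a) =
    (Spec.map (CommRingCat.ofHom e)).appTop.hom
      ((Scheme.ΓSpecIso (CommRingCat.of A)).inv.hom a) at h3
  rw [h3]
  exact h2

end General

variable {Λ k : Type u} [CommRing Λ] [Field k] [Algebra Λ k]

/-- Ring data of a deformation of `Spec B₀` over `A`: a flat `A`-algebra `R` with a surjection onto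
`B₀` whose kernel is generated by the maximal ideal of `A`. -/
structure AlgDataL (A : ArtFun.Art Λ k) (B₀ : Type u) [CommRing B₀] [Algebra k B₀] where
  /-- the ring -/
  R : Type u
  [commRing : CommRing R]
  /-- the structure map -/
  a : A.carrier →+* R
  /-- the reduction -/
  π : R →+* B₀
  flat : a.Flat
  π_surj : Function.Surjective π
  ker_π : RingHom.ker π = (RingHom.ker A.res.toRingHom).map a
  π_a : ∀ c : A.carrier, π (a c) = algebraMap k B₀ (A.res c)

attribute [instance] AlgDataL.commRing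

variable {A : ArtFun.Art Λ k} {B₀ : Type u} [CommRing B₀] [Algebra k B₀]

/-- The deformation attached to ring data. -/
noncomputable def ofAlgL (d : AlgDataL A B₀) : ArtFun.DefSch (Spec (CommRingCat.of B₀))
    (Spec.map (CommRingCat.ofHom (algebraMap k B₀))) A where
  total := Spec (CommRingCat.of d.R)
  f := Spec.map (CommRingCat.ofHom d.a)
  flat := (HasRingHomProperty.Spec_iff (P := @Flat)).mpr d.flat
  i := Spec.map (CommRingCat.ofHom d.π)
  isPullback := isPullback_SpecMap_of_isPushout _ _ _ _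
    (isPushout_of_surjective d.a A.res.toRingHom d.π (algebraMap k B₀)
      (RingHom.ext d.π_a) d.π_surj d.ker_π A.res_surjective)

/-- Every deformation of `Spec B₀` comes from ring data. -/
theorem exists_algData_isoL
    (ξ : ArtFun.DefSch (Spec (CommRingCat.of B₀)) (Spec.map (CommRingCat.ofHom (algebraMap k B₀))) A) :
    ∃ d : AlgDataL A B₀, Nonempty ((ofAlgL d).Iso ξ) := by
  let e : A.carrier →+* k := A.res.toRingHom
  have hsq : IsPullback ξ.i (Spec.map (CommRingCat.ofHom (algebraMap k B₀))) ξ.f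
      (Spec.map (CommRingCat.ofHom e)) := ξ.isPullback
  haveI : Flat ξ.f := ξ.flat
  have he : Function.Surjective e := A.res_surjective
  have hnil : IsNilpotent (RingHom.ker e) := isNilpotent_ker_of_isArtinianRing _
  have _ : IsAffine ξ.total :=
    isAffine_of_isPullback e he (le_nilradical_of_isNilpotent hnil) hsq
  have hΓbij : Function.Bijective (Scheme.ΓSpecIso (CommRingCat.of B₀)).hom.hom :=
    (ConcreteCategory.isIso_iff_bijective _).mp inferInstance
  let π : Γ(ξ.total, ⊤) →+* B₀ :=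
    (Scheme.ΓSpecIso (CommRingCat.of B₀)).hom.hom.comp ξ.i.appTop.hom
  have hπa : ∀ c : A.carrier, π (baseMap ξ.f c) = algebraMap k B₀ (A.res c) := by
    intro c
    change (Scheme.ΓSpecIso (CommRingCat.of B₀)).hom.hom
      (ξ.i.appTop.hom (baseMap ξ.f c)) = algebraMap k B₀ (A.res c)
    have h1 := RingHom.congr_fun (appTop_comp_baseMap' e hsq) c
    rw [RingHom.comp_apply] at h1
    rw [h1, RingHom.comp_apply, ΓSpecIso_hom_baseMap]
    rfl
  have hπ : Function.Surjective π := hΓbij.2.comp (appTop_surjective e he hsq)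
  have hker : RingHom.ker π = (RingHom.ker e).map (baseMap ξ.f) := by
    rw [← ker_appTop e he hsq]
    ext y
    rw [RingHom.mem_ker, RingHom.mem_ker]
    change (Scheme.ΓSpecIso (CommRingCat.of B₀)).hom.hom (ξ.i.appTop.hom y) = 0 ↔ _
    exact map_eq_zero_iff _ hΓbij.1
  let d : AlgDataL A B₀ :=
    { R := Γ(ξ.total, ⊤)
      a := baseMap ξ.f
      π := π
      flat := flat_baseMap (g := ξ.f)
      π_surj := hπ
      ker_π := hker
      π_a := hπa }
  have hda : CommRingCat.ofHom d.a =
      (Scheme.ΓSpecIso (CommRingCat.of A.carrier)).inv ≫ ξ.f.appTop := rfl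
  have hdπ : CommRingCat.ofHom d.π =
      ξ.i.appTop ≫ (Scheme.ΓSpecIso (CommRingCat.of B₀)).hom := rfl
  refine ⟨d, ⟨⟨ξ.total.isoSpec.symm, ?_, ?_⟩⟩⟩
  · show ξ.total.isoSpec.inv ≫ ξ.f = Spec.map (CommRingCat.ofHom d.a)
    rw [hda, Iso.inv_comp_eq]
    exact eq_toSpecΓ_comp ξ.f
  · show Spec.map (CommRingCat.ofHom d.π) ≫ ξ.total.isoSpec.inv = ξ.i
    rw [hdπ, Iso.comp_inv_eq, Spec.map_comp, SpecMap_ΓSpecIso_hom]
    exact (Scheme.toSpecΓ_naturality ξ.i).symm

/-- Base change of ring data along a surjection of the base. -/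
theorem nonempty_baseChange_isoL {A' : ArtFun.Art Λ k} (p : A' ⟶ A) (d' : AlgDataL A' B₀)
    (d : AlgDataL A B₀) (q : d'.R →+* d.R) (hq : Function.Surjective q)
    (hp : Function.Surjective p.toAlgHom.toRingHom)
    (hker : RingHom.ker q = (RingHom.ker p.toAlgHom.toRingHom).map d'.a)
    (hqa : ∀ c, q (d'.a c) = d.a (p.toAlgHom c)) (hqπ : ∀ x, d.π (q x) = d'.π x) :
    Nonempty (((ofAlgL d').baseChange p).Iso (ofAlgL d)) := by
  have hpo := isPushout_of_surjective d'.a p.toAlgHom.toRingHom q d.a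
    (RingHom.ext hqa) hq hker hp
  have hpb : IsPullback (Spec.map (CommRingCat.ofHom q)) (Spec.map (CommRingCat.ofHom d.a))
      (Spec.map (CommRingCat.ofHom d'.a)) (Spec.map (CommRingCat.ofHom p.toAlgHom.toRingHom)) :=
    isPullback_SpecMap_of_isPushout _ _ _ _ hpo
  let qS : (ofAlgL d).total ⟶ (ofAlgL d').total := Spec.map (CommRingCat.ofHom q)
  have hpb' : IsPullback qS (ofAlgL d).f (ofAlgL d').f (ArtFun.Art.specMap p) := hpb
  have hiq : (ofAlgL d).i ≫ qS = (ofAlgL d').i := by
    show Spec.map (CommRingCat.ofHom d.π) ≫ Spec.map (CommRingCat.ofHom q) =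
      Spec.map (CommRingCat.ofHom d'.π)
    rw [← Spec.map_comp, ← CommRingCat.ofHom_comp]
    congr 2
    exact RingHom.ext hqπ
  let big := IsPullback.of_hasPullback (ofAlgL d').f (ArtFun.Art.specMap p)
  refine ⟨⟨big.isoIsPullback _ _ hpb', ?_, ?_⟩⟩
  · exact IsPullback.isoIsPullback_hom_snd _ _ big hpb'
  · have hfst := IsPullback.isoIsPullback_hom_fst _ _ big hpb'
    have hsnd := IsPullback.isoIsPullback_hom_snd _ _ big hpb'
    apply hpb'.hom_ext
    · rw [Category.assoc, hfst, ArtFun.DefSch.baseChange_i_fst, hiq]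
    · rw [Category.assoc, hsnd]
      exact (ArtFun.DefSch.baseChange_i_f (ofAlgL d') p).trans (ofAlgL d).i_f.symm

end Groth.Agent.Lib.Helper97.DefLCI
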