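import Groth.Agent.Lib.Helper97.DefLCI.T2LCI
import Groth.Agent.Lib.Helper97.DefLCI.LiftL
import Groth.Agent.Lib.Helper97.DefLCI.OfAlgL
import Groth.Agent.Lib.Helper76.ArtBasic

/-!
# The deformation functor of an affine local complete intersection is smooth
-/

set_option autoImplicit false

namespace Groth.Agent.Lib.Helper97.DefLCI

open CategoryTheory AlgebraicGeometry MvPolynomial
open Groth.Agent.Lib.Helper97.CotT2

universe u

variable {Λ k : Type u} [CommRing Λ] [Field k] [Algebra Λ k]
variable {A₀ : Type u} [CommRing A₀] [Algebra k A₀]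

/-- Ring-level lifting of a deformation of a complete intersection along a small extension. -/
theorem exists_algDataL_lift {n : ℕ} (f : MvPolynomial (Fin n) k →ₐ[k] A₀)
    (hf : Function.Surjective f)
    (hI : LCI.IsKoszulRegularIdeal (RingHom.ker f.toRingHom))
    {B A : ArtFun.Art Λ k} (μ : B ⟶ A) (hμ : ArtFun.Art.IsSmallExt μ) (d : AlgDataL A A₀) :
    ∃ (d' : AlgDataL B A₀) (q : d'.R →+* d.R), Function.Surjective q ∧
      RingHom.ker q = (RingHom.ker μ.toAlgHom.toRingHom).map d'.a ∧
      (∀ c, q (d'.a c) = d.a (μ.toAlgHom c)) ∧ (∀ x, d.π (q x) = d'.π x) := by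
  obtain ⟨hμs, hne, hprin, hm⟩ := hμ
  obtain ⟨t₀, ht₀⟩ := hprin.principal
  letI : Algebra (MvPolynomial (Fin n) k) A₀ := f.toRingHom.toAlgebra
  have hκ : Function.Surjective (algebraMap (MvPolynomial (Fin n) k) A₀) := hf
  let r' : RingHom.ker f.toRingHom → MvPolynomial (Fin n) k := Subtype.val
  have hr' : Ideal.span (Set.range r') =
      RingHom.ker (algebraMap (MvPolynomial (Fin n) k) A₀) := by
    rw [Subtype.range_val]
    exact Ideal.span_eq _
  have hc : ∀ (x : MvPolynomial (Fin n) k) (m : A₀), f x • m = x • m := fun x m => rfl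
  have hT2 : H2Vanishes r' A₀ :=
    (subsingleton_T2_iff_H2Vanishes (presOfAlgHom f hf) A₀ r' f hf hr'.symm hc).mp
      (subsingleton_T2_of_isKoszulRegularIdeal f hf hI A₀)
  have hpe : A.res.toRingHom.comp μ.toAlgHom.toRingHom = B.res.toRingHom :=
    congrArg AlgHom.toRingHom μ.res_comp
  have hker : RingHom.ker μ.toAlgHom.toRingHom = Ideal.span {t₀} := ht₀
  have ht₀ne : t₀ ≠ 0 := by
    rintro rfl
    apply hne
    rw [ht₀]
    exact Submodule.span_zero_singleton B.carrier
  have hmt : ∀ c ∈ IsLocalRing.maximalIdeal B.carrier, c * t₀ = 0 := by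
    intro c hc
    have h1 : c * t₀ ∈ IsLocalRing.maximalIdeal B.carrier * RingHom.ker μ.toAlgHom := by
      apply Ideal.mul_mem_mul hc
      rw [ht₀]
      exact Submodule.mem_span_singleton_self t₀
    rw [hm] at h1
    exact h1
  have hπa : ∀ c : A.carrier, d.π (d.a c) =
      algebraMap (MvPolynomial (Fin n) k) A₀ (C (A.res.toRingHom c)) := by
    intro c
    rw [d.π_a c]
    exact (f.commutes (A.res c)).symm
  obtain ⟨R', _, a', π', q, hfl, hπ's, hkπ', hπ'a, hqs, hkq, hqa, hπq⟩ :=
    exists_lift_ringL B.res.toRingHom A.res.toRingHom μ.toAlgHom.toRingHom hpe A.res_surjective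
      hμs t₀ hker ht₀ne hmt hκ r' hr' d.a d.π d.flat d.π_surj d.ker_π hπa hT2
  let d' : AlgDataL B A₀ :=
    { R := R'
      a := a'
      π := π'
      flat := hfl
      π_surj := hπ's
      ker_π := hkπ'
      π_a := fun c => (hπ'a c).trans (f.commutes (B.res c)) }
  exact ⟨d', q, hqs, hkq, hqa, hπq⟩

/-- The deformation functor of an affine local complete intersection over a field is smooth. -/
theorem isSmoothFunctor_defFunctor_of_isLCI (hA : LCI.IsLCI k A₀) :
    ArtFun.IsSmoothFunctor (ArtFun.defFunctor (Λ := Λ) (Spec (CommRingCat.of A₀))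
      (Spec.map (CommRingCat.ofHom (algebraMap k A₀)))) := by
  obtain ⟨_, n, f, hf, hI⟩ := hA
  intro B A μ hμ
  refine Groth.Agent.Lib.Helper76.surjective_induction
    (fun A B μ => Function.Surjective ((ArtFun.defFunctor (Λ := Λ) (Spec (CommRingCat.of A₀))
      (Spec.map (CommRingCat.ofHom (algebraMap k A₀)))).map μ)) ?_ ?_ ?_ μ hμ
  · intro A B e he
    have : IsIso ((ArtFun.defFunctor (Λ := Λ) (Spec (CommRingCat.of A₀))
      (Spec.map (CommRingCat.ofHom (algebraMap k A₀)))).map e) := inferInstance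
    exact ((isIso_iff_bijective _).mp this).2
  · intro A B p hp y
    induction y using Quotient.inductionOn with
    | h ξ =>
      obtain ⟨d, ⟨e⟩⟩ := exists_algData_isoL ξ
      obtain ⟨d', q, hq, hk, hqa, hqπ⟩ := exists_algDataL_lift f hf hI p hp d
      obtain ⟨e'⟩ := nonempty_baseChange_isoL p d' d q hq hp.1 hk hqa hqπ
      exact ⟨(ofAlgL d').cl, Quotient.sound ⟨e'.trans e⟩⟩
  · intro A B C p q hp hq
    rw [Functor.map_comp]
    intro y
    obtain ⟨z, rfl⟩ := hq y
    obtain ⟨w, rfl⟩ := hp z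
    exact ⟨w, rfl⟩

end Groth.Agent.Lib.Helper97.DefLCI
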