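import Groth.Agent.Lib.Helper97.CotT2.SmoothT2
import Groth.Agent.Lib.Helper97.CotT2.T2Vanish
import Groth.Agent.Lib.Helper85.GorLCI
import Groth.Agent.Lib.Helper70.QReg4
import Groth.Agent.S2103
import Groth.Prelude.Def_LCI2

/-!
# `T²` of a local complete intersection over a field vanishes
-/

set_option autoImplicit false

namespace Groth.Agent.Lib.Helper97.DefLCI

open Groth.Agent.Lib.Helper97.CotT2 MvPolynomial

universe u

/-- A Koszul-regular ideal is locally quasi-regular. -/
theorem isLocallyQuasiRegular_of_isKoszulRegularIdeal {R : Type u} [CommRing R] (J : Ideal R)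
    (h : LCI.IsKoszulRegularIdeal J) : PP16.IsLocallyQuasiRegular R J := by
  intro P hP hJP
  obtain ⟨g, hg, l, hl, hspan⟩ := h ⟨P, hP⟩ hJP
  refine ⟨g, hg, l.length, l.get, ?_, ?_⟩
  · exact Groth.Agent.S2103.result _
      (Groth.Agent.Lib.Helper43.KoszulH1.isH1Regular_of_isKoszulRegularSeq l hl)
  · rw [hspan, Set.range_list_get]

/-- A Koszul-regular ideal of a Noetherian ring is generated by a weakly regular sequence in the
local ring of every maximal ideal containing it. -/
theorem exists_isWeaklyRegular_local {R : Type u} [CommRing R] [IsNoetherianRing R] (J : Ideal R)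
    (h : LCI.IsKoszulRegularIdeal J) (m : Ideal R) [m.IsMaximal] (hJm : J ≤ m) :
    ∃ rs : List (Localization.AtPrime m),
      RingTheory.Sequence.IsWeaklyRegular (Localization.AtPrime m) rs ∧
      Ideal.ofList rs = J.map (algebraMap R (Localization.AtPrime m)) := by
  obtain ⟨rs, hrs, hmap⟩ := Groth.Agent.Lib.Helper85.GorLCI.exists_koszulRegular_local J h m hJm
  refine ⟨rs, ?_, hmap.symm⟩
  apply Groth.Agent.Lib.Helper85.GorLCI.isWeaklyRegular_of_koszulRegular rs hrs
  intro x hx
  have h1 : x ∈ Ideal.ofList rs := Ideal.subset_span hx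
  rw [← hmap] at h1
  have h2 : J.map (algebraMap R (Localization.AtPrime m)) ≤
      IsLocalRing.maximalIdeal (Localization.AtPrime m) := by
    rw [← Localization.AtPrime.map_eq_maximalIdeal]
    exact Ideal.map_mono hJm
  exact h2 h1


section Pres

variable {k A₀ : Type u} [CommRing k] [CommRing A₀] [Algebra k A₀] {ι : Type*}
  (f : MvPolynomial ι k →ₐ[k] A₀) (hf : Function.Surjective f)

/-- The presentation attached to a surjection from a polynomial ring, with all elements of the
kernel as relations. -/
noncomputable def presOfAlgHom :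
    Algebra.Presentation k A₀ ι (Algebra.Generators.ofAlgHom f hf).ker where
  __ := Algebra.Generators.ofAlgHom f hf
  relation := fun x => x.1
  span_range_relation_eq_ker := by
    have : (Set.range fun x : (Algebra.Generators.ofAlgHom f hf).ker => (x : (Algebra.Generators.ofAlgHom f hf).Ring)) =
        ((Algebra.Generators.ofAlgHom f hf).ker : Set (Algebra.Generators.ofAlgHom f hf).Ring) :=
      Subtype.range_coe
    rw [this]
    exact Ideal.span_eq _

lemma presOfAlgHom_algebraMap (x : MvPolynomial ι k) :
    algebraMap (presOfAlgHom f hf).toExtension.Ring A₀ x = f x := by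
  show aeval (f ∘ X) x = f x
  congr 1
  ext i
  simp

lemma presOfAlgHom_ker :
    ((presOfAlgHom f hf).toExtension.ker : Ideal (MvPolynomial ι k)) = RingHom.ker f.toRingHom := by
  ext x
  show algebraMap (presOfAlgHom f hf).toExtension.Ring A₀ x = 0 ↔ f x = 0
  rw [presOfAlgHom_algebraMap]

end Pres

/-- Projectivity of the cotangent module of an extension from that of the cotangent module of its
kernel over the quotient ring. -/
theorem projective_cotangent_of_projective {R S : Type u} [CommRing R] [CommRing S] [Algebra R S]
    (E : Algebra.Extension.{u} R S) [Module.Projective (E.Ring ⧸ E.ker) E.ker.Cotangent] :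
    Module.Projective S E.Cotangent := by
  let e₁ : (E.Ring ⧸ E.ker) ≃+* S :=
    RingHom.quotientKerEquivOfSurjective E.algebraMap_surjective
  haveI : RingHomInvPair (e₁ : (E.Ring ⧸ E.ker) →+* S) (e₁.symm : S →+* (E.Ring ⧸ E.ker)) :=
    RingHomInvPair.of_ringEquiv e₁
  haveI : RingHomInvPair (e₁.symm : S →+* (E.Ring ⧸ E.ker)) (e₁ : (E.Ring ⧸ E.ker) →+* S) :=
    RingHomInvPair.symm _ _
  let e₂ : E.ker.Cotangent ≃ₛₗ[(e₁ : (E.Ring ⧸ E.ker) →+* S)] E.Cotangent :=
    { toFun := Algebra.Extension.Cotangent.of
      invFun := Algebra.Extension.Cotangent.val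
      map_add' := fun _ _ => rfl
      map_smul' := by
        intro c x
        obtain ⟨r, rfl⟩ := Ideal.Quotient.mk_surjective c
        have h1 : (Ideal.Quotient.mk E.ker r) • x = r • x := by
          rw [← Ideal.Quotient.algebraMap_eq, algebraMap_smul]
        have h2 : (e₁ : (E.Ring ⧸ E.ker) →+* S) (Ideal.Quotient.mk E.ker r) =
            algebraMap E.Ring S r := rfl
        rw [h1, h2]
        apply_fun Algebra.Extension.Cotangent.val using fun a b h => h
        show r • x = ((algebraMap E.Ring S r) • Algebra.Extension.Cotangent.of x).val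
        rw [algebraMap_smul, Algebra.Extension.Cotangent.val_smul']
        rfl
      left_inv := fun _ => rfl
      right_inv := fun _ => rfl }
  exact Module.Projective.of_equiv e₂


lemma hloc_of_isKoszulRegularIdeal {R : Type u} [CommRing R] [IsNoetherianRing R] {σ : Type*}
    (r : σ → R) (J : Ideal R) (hJ : Ideal.span (Set.range r) = J)
    (hI : LCI.IsKoszulRegularIdeal J) :
    ∀ (m : Ideal R) [m.IsMaximal], Ideal.span (Set.range r) ≤ m →
      ∃ rs : List (Localization.AtPrime m),
        RingTheory.Sequence.IsWeaklyRegular (Localization.AtPrime m) rs ∧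
        Ideal.ofList rs = (Ideal.span (Set.range r)).map (algebraMap R (Localization.AtPrime m)) := by
  subst hJ
  intro m _ h
  exact exists_isWeaklyRegular_local _ hI m h

/-- `T²` vanishes for a local complete intersection over a field. -/
theorem subsingleton_T2_of_isKoszulRegularIdeal {k A₀ : Type u} [Field k] [CommRing A₀]
    [Algebra k A₀] {n : ℕ} (f : MvPolynomial (Fin n) k →ₐ[k] A₀) (hf : Function.Surjective f)
    (hI : LCI.IsKoszulRegularIdeal (RingHom.ker f.toRingHom))
    (M : Type*) [AddCommGroup M] [Module A₀ M] :
    Subsingleton (CotT.T2 (presOfAlgHom f hf) M) := by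
  set P := presOfAlgHom f hf with hP
  have hker : ((presOfAlgHom f hf).toExtension.ker : Ideal (MvPolynomial (Fin n) k)) =
      RingHom.ker f.toRingHom := presOfAlgHom_ker f hf
  have hI' : LCI.IsKoszulRegularIdeal
      ((presOfAlgHom f hf).toExtension.ker : Ideal (MvPolynomial (Fin n) k)) := by
    rw [hker]
    exact hI
  have hN : IsNoetherianRing (MvPolynomial (Fin n) k) := inferInstance
  -- projectivity of the cotangent module
  have hproj0 : Module.Projective (P.toExtension.Ring ⧸ P.toExtension.ker)
      P.toExtension.ker.Cotangent :=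
    Groth.Agent.Lib.Helper70.QReg4.projective_cotangent_of_isLocallyQuasiRegular _
      (isLocallyQuasiRegular_of_isKoszulRegularIdeal _ hI')
  have hproj : Module.Projective A₀ P.toExtension.Cotangent :=
    projective_cotangent_of_projective P.toExtension
  obtain ⟨s, hs⟩ := Module.projective_lifting_property (CotT.toCot P) LinearMap.id
    (Groth.Agent.S12289.toCot_surjective P)
  -- relations with coefficients in the ideal are trivial
  have hspan : Ideal.span (Set.range (CotT.rel P)) = P.toExtension.ker :=
    (ker_eq_span_rel P).symm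
  have hN' : IsNoetherianRing P.toExtension.Ring := hN
  have hI'' : LCI.IsKoszulRegularIdeal P.toExtension.ker := hI'
  have hC1 : ∀ q ∈ Q (CotT.rel P), (∀ s, q s ∈ Ideal.span (Set.range (CotT.rel P))) →
      q ∈ F0 (CotT.rel P) := by
    intro q hq hqI
    exact mem_F0_of_locally_regular (CotT.rel P)
      (hloc_of_isKoszulRegularIdeal (CotT.rel P) _ hspan hI'') hq hqI
  exact subsingleton_T2_of_split P (d2_injective_of_C1 P hC1) s hs M

end Groth.Agent.Lib.Helper97.DefLCI
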